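import Groth.Prelude.Def_W4c3biextchowCx
import Mathlib.Algebra.Category.ModuleCat.Projective
import Mathlib.Algebra.Category.ModuleCat.Abelian
import Mathlib.Algebra.Category.Grp.Zero
import Mathlib.Algebra.Homology.HomologySequenceLemmas
import Mathlib.Algebra.Homology.HomologicalComplexAbelian
import Mathlib.Algebra.Homology.ShortComplex.ModuleCat
import Mathlib.CategoryTheory.Abelian.Projective.Resolution
import Mathlib.Tactic

/-!
Degreewise split quasi-isomorphisms of complexes of projectives.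
-/

set_option autoImplicit false
set_option linter.style.haveILetI false
set_option backward.isDefEq.respectTransparency false

universe v u

open CategoryTheory CategoryTheory.Limits

namespace Groth.Agent.BiextCx

variable {R : Type u} [Ring R]

/-- An acyclic complex of projectives is contractible. -/
theorem nonempty_homotopy_id_zero (Q : ChainComplex (ModuleCat.{v} R) ℕ) [∀ q, Projective (Q.X q)]
    (hQ : Q.Acyclic) : Nonempty (Homotopy (𝟙 Q) 0) := by
  let Z : ModuleCat.{v} R := ModuleCat.of R PUnit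
  have hZ : IsZero Z := ModuleCat.isZero_of_subsingleton _
  have hz : IsZero ((ChainComplex.single₀ (ModuleCat.{v} R)).obj Z) := (ChainComplex.single₀ _).map_isZero hZ
  have hq : QuasiIso (0 : Q ⟶ (ChainComplex.single₀ _).obj Z) :=
    ⟨fun i => by
      rw [quasiIsoAt_iff_exactAt' _ _ (ShortComplex.exact_of_isZero_X₂ _ ((HomologicalComplex.eval _ _ i).map_isZero hz))]
      exact hQ i⟩
  let P : ProjectiveResolution Z := { complex := Q, π := 0, quasiIso := hq }
  exact ⟨ProjectiveResolution.liftHomotopyZero (P := P) (Q := P) (𝟙 Q) comp_zero⟩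

theorem acyclic_of_ses {A' A A'' : ChainComplex (ModuleCat.{v} R) ℕ} (f : A' ⟶ A) (p : A ⟶ A'')
    (hf : ∀ q, Function.Injective (f.f q).hom) (hp : ∀ q, Function.Surjective (p.f q).hom)
    (hfp : ∀ q, Function.Exact (f.f q).hom (p.f q).hom) [QuasiIso f] : A''.Acyclic := by
  have w : f ≫ p = 0 := by
    ext q x
    exact (hfp q).apply_apply_eq_zero x
  let T := ShortComplex.mk f p w
  have hT : T.ShortExact := HomologicalComplex.shortExact_of_degreewise_shortExact T fun i =>
    { exact := (ShortComplex.ShortExact.moduleCat_exact_iff_function_exact _).2 (hfp i)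
      mono_f := (ModuleCat.mono_iff_injective _).2 (hf i)
      epi_g := (ModuleCat.epi_iff_surjective _).2 (hp i) }
  exact hT.acyclic_X₃ ‹_›

/-- A splitting by a chain map of a degreewise surjection with acyclic projective target. -/
theorem exists_section {A A'' : ChainComplex (ModuleCat.{v} R) ℕ} (p : A ⟶ A'')
    [∀ q, Projective (A''.X q)] (hp : ∀ q, Function.Surjective (p.f q).hom) (hQ : A''.Acyclic) :
    ∃ h : A'' ⟶ A, h ≫ p = 𝟙 A'' := by
  obtain ⟨H⟩ := nonempty_homotopy_id_zero A'' hQ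
  haveI : ∀ q, Epi (p.f q) := fun q => (ModuleCat.epi_iff_surjective _).2 (hp q)
  let σ := fun q => Projective.factorThru (𝟙 (A''.X q)) (p.f q)
  refine ⟨Homotopy.nullHomotopicMap (fun i j => H.hom i j ≫ σ j), ?_⟩
  rw [Homotopy.nullHomotopicMap_comp]
  have : (fun i j => (H.hom i j ≫ σ j) ≫ p.f j) = H.hom := by
    funext i j
    rw [Category.assoc, Projective.factorThru_comp, Category.comp_id]
  rw [this]
  ext1 i
  have := H.comm i
  simp only [HomologicalComplex.zero_f, add_zero] at this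
  rw [this]
  rfl

theorem bijective_add {A' A A'' : ModuleCat.{v} R} (f : A' ⟶ A) (p : A ⟶ A'') (h : A'' ⟶ A)
    (hh : h ≫ p = 𝟙 A'') (hf : Function.Injective f.hom) (hfp : Function.Exact f.hom p.hom) :
    Function.Bijective (fun x : A'' × A' => h.hom x.1 + f.hom x.2) := by
  have e : ∀ x, p.hom (h.hom x) = x := fun x => congrArg (fun φ => φ.hom x) hh
  constructor
  · rintro ⟨a, b⟩ ⟨a', b'⟩ hab
    have ha : a = a' := by
      have := congrArg p.hom hab
      simpa [e, hfp.apply_apply_eq_zero] using this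
    subst ha
    exact Prod.ext rfl (hf (add_left_cancel hab))
  · intro a
    obtain ⟨b, hb⟩ := (hfp (a - h.hom (p.hom a))).1 (by simp [e])
    exact ⟨⟨p.hom a, b⟩, by simp [hb]⟩

/-- The degreewise quotient complex. -/
noncomputable def quot {A' A : ChainComplex (ModuleCat.{v} R) ℕ} (f : A' ⟶ A) : ChainComplex (ModuleCat.{v} R) ℕ :=
  ChainComplex.of (fun q => ModuleCat.of R ((A.X q) ⧸ LinearMap.range (f.f q).hom))
    (fun q => ModuleCat.ofHom ((LinearMap.range (f.f (q + 1)).hom).mapQ (LinearMap.range (f.f q).hom) (A.d (q + 1) q).hom (by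
      rintro _ ⟨x, rfl⟩
      exact ⟨(A'.d (q + 1) q).hom x, (congrArg (fun φ => φ.hom x) (f.comm (q + 1) q)).symm⟩)))
    (fun q => by
      ext x
      change Submodule.Quotient.mk ((A.d (q + 1) q).hom ((A.d (q + 1 + 1) (q + 1)).hom x)) = 0
      have := congrArg (fun φ => φ.hom x) (A.d_comp_d (q + 1 + 1) (q + 1) q)
      simp only [ModuleCat.hom_comp, LinearMap.comp_apply, ModuleCat.hom_zero, LinearMap.zero_apply] at this
      rw [this, Submodule.Quotient.mk_zero])

/-- The projection to the degreewise quotient complex. -/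
noncomputable def quotπ {A' A : ChainComplex (ModuleCat.{v} R) ℕ} (f : A' ⟶ A) : A ⟶ quot f where
  f q := ModuleCat.ofHom (LinearMap.range (f.f q).hom).mkQ
  comm' i j hij := by
    obtain rfl := hij
    simp only [quot, ChainComplex.of_d]
    ext x
    rfl

theorem exact_quotπ {A' A : ChainComplex (ModuleCat.{v} R) ℕ} (f : A' ⟶ A) (q : ℕ) :
    Function.Exact (f.f q).hom ((quotπ f).f q).hom := fun x => Submodule.Quotient.mk_eq_zero _

theorem surjective_quotπ {A' A : ChainComplex (ModuleCat.{v} R) ℕ} (f : A' ⟶ A) (q : ℕ) :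
    Function.Surjective ((quotπ f).f q).hom := Submodule.mkQ_surjective _

theorem projective_quot {A' A : ChainComplex (ModuleCat.{v} R) ℕ} [Small.{v} R] (f : A' ⟶ A) (q : ℕ)
    (h : Module.Free R ((A.X q) ⧸ LinearMap.range (f.f q).hom)) : Projective ((quot f).X q) :=
  haveI := h
  ModuleCat.projective_of_free.{v} (M := ModuleCat.of R ((A.X q) ⧸ LinearMap.range (f.f q).hom)) (Module.Free.chooseBasis R _)

/-- The retraction. -/
theorem exists_decomposition {A' A : ChainComplex (ModuleCat.{v} R) ℕ} (f : A' ⟶ A)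
    (hf : ∀ q, Function.Injective (f.f q).hom) [∀ q, Projective ((quot f).X q)] [QuasiIso f] :
    ∃ (h : quot f ⟶ A) (g : A ⟶ A'), h ≫ quotπ f = 𝟙 _ ∧ f ≫ g = 𝟙 A' ∧ g ≫ f + quotπ f ≫ h = 𝟙 A := by
  obtain ⟨h, hh⟩ := exists_section (quotπ f) (surjective_quotπ f)
    (acyclic_of_ses f (quotπ f) hf (surjective_quotπ f) (exact_quotπ f))
  have hh' : ∀ q x, ((quotπ f).f q).hom ((h.f q).hom x) = x := fun q x =>
    congrArg (fun φ => (φ.f q).hom x) hh
  let e := fun q => LinearEquiv.ofInjective (f.f q).hom (hf q)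
  let e₀ : ∀ q, A.X q →ₗ[R] LinearMap.range (f.f q).hom := fun q =>
    LinearMap.codRestrict _ (((𝟙 A - quotπ f ≫ h : A ⟶ A).f q).hom) fun x => (exact_quotπ f q _).1 (by
      simp [hh'])
  let g₀ : ∀ q, A.X q ⟶ A'.X q := fun q => ModuleCat.ofHom ((e q).symm.toLinearMap ∘ₗ e₀ q)
  have key : ∀ q, g₀ q ≫ f.f q = (𝟙 A - quotπ f ≫ h : A ⟶ A).f q := fun q => by
    ext x
    exact congrArg Subtype.val ((e q).apply_symm_apply (e₀ q x))
  haveI : ∀ q, Mono (f.f q) := fun q => (ModuleCat.mono_iff_injective _).2 (hf q)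
  let g : A ⟶ A' :=
    { f := g₀
      comm' := fun i j _ => by
        rw [← cancel_mono (f.f j), Category.assoc, Category.assoc, ← f.comm, reassoc_of% key i, key j]
        exact ((𝟙 A - quotπ f ≫ h : A ⟶ A).comm i j) }
  refine ⟨h, g, hh, ?_, ?_⟩
  · ext1 q
    rw [← cancel_mono (f.f q), HomologicalComplex.comp_f, Category.assoc, key]
    ext x
    have : ((quotπ f).f q).hom ((f.f q).hom x) = 0 := (exact_quotπ f q).apply_apply_eq_zero x
    simp [this]
  · ext1 q
    rw [HomologicalComplex.add_f_apply, HomologicalComplex.comp_f, HomologicalComplex.id_f, key]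
    simp

theorem exists_homotopy {A' A : ChainComplex (ModuleCat.{v} R) ℕ} (f : A' ⟶ A)
    (hf : ∀ q, Function.Injective (f.f q).hom) [∀ q, Projective ((quot f).X q)] [QuasiIso f]
    (g₁ g₂ : A ⟶ A') (h₁ : f ≫ g₁ = 𝟙 A') (h₂ : f ≫ g₂ = 𝟙 A') :
    ∃ H : Homotopy g₁ g₂, ∀ i j : ℕ, f.f i ≫ H.hom i j = 0 := by
  obtain ⟨h, g, -, -, hdec⟩ := exists_decomposition f hf
  obtain ⟨K⟩ := nonempty_homotopy_id_zero (quot f)
    (acyclic_of_ses f (quotπ f) hf (surjective_quotπ f) (exact_quotπ f))
  let k := h ≫ (g₁ - g₂)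
  have hk : quotπ f ≫ k = g₁ - g₂ := by
    have := congrArg (· ≫ (g₁ - g₂)) hdec
    simpa [k, h₁, h₂] using this
  let H₀ : Homotopy (g₁ - g₂) 0 :=
    (Homotopy.ofEq (by rw [Category.id_comp, hk])).trans (((K.compRight k).compLeft (quotπ f)).trans (Homotopy.ofEq (by simp)))
  refine ⟨Homotopy.equivSubZero.symm H₀, fun i j => ?_⟩
  have e : f.f i ≫ (quotπ f).f i = 0 := by
    ext x
    exact (exact_quotπ f i).apply_apply_eq_zero x
  simp [Homotopy.equivSubZero, H₀, reassoc_of% e]

end Groth.Agent.BiextCx
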